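import Groth.Agent.FlatMisc.SmoothGeneric
import Groth.Agent.FlatMisc.GenericFibreRed
import Groth.Agent.S2535

/-!
# Generic smoothness on the source in characteristic zero
-/

set_option autoImplicit false
set_option linter.style.haveILetI false
set_option backward.isDefEq.respectTransparency.types false
set_option backward.isDefEq.respectTransparency false

universe u

open CategoryTheory CategoryTheory.Limits AlgebraicGeometry

namespace Groth.Agent.GenSmooth5

theorem isDominant_of_genericPoint {X Y : Scheme.{u}} [IrreducibleSpace X] [IrreducibleSpace Y] (f : X ⟶ Y)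
    (h : f (genericPoint X) = genericPoint Y) : IsDominant f := by
  refine ⟨fun y => ?_⟩
  have h1 : y ∈ closure ({genericPoint Y} : Set Y) :=
    specializes_iff_mem_closure.1 (genericPoint_specializes y)
  refine closure_mono ?_ h1
  rintro _ rfl
  exact ⟨genericPoint X, h⟩

theorem genericPoint_mem_smoothLocus {X Y : Scheme.{u}} [IsIntegral X] [IsIntegral Y] (f : X ⟶ Y)
    [LocallyOfFinitePresentation f] (hη : f (genericPoint X) = genericPoint Y) [CharZero Y.functionField] :
    genericPoint X ∈ f.smoothLocus := by
  haveI := isDominant_of_genericPoint f hη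
  refine FlatMisc.SmoothGeneric.genericPoint_mem_smoothLocus f hη ?_
  let η := genericPoint Y
  let K := Y.residueField η
  haveI : CharZero K := charZero_of_injective_ringHom (f := (Y.residue η).hom)
    (RingHom.injective (R := Y.functionField) (Y.residue η).hom)
  haveI : PerfectField K := PerfectField.ofCharZero
  haveI : AlgebraicGeometry.IsReduced (f.fiber η) := by
    refine _root_.FlatMisc.isReduced_fiber_of_generic f η fun w hw => ?_
    exact (hw.antisymm (genericPoint_specializes w)).eq
  haveI : AlgebraicGeometry.IsReduced (FBase.bc (k := K) (f.fiberToSpecResidueField η) K) := by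
    show AlgebraicGeometry.IsReduced (pullback (f.fiberToSpecResidueField η) (Spec.map (CommRingCat.ofHom (algebraMap K K))))
    haveI : IsIso (Spec.map (CommRingCat.ofHom (algebraMap K K))) := by
      rw [show CommRingCat.ofHom (algebraMap K K) = 𝟙 (CommRingCat.of K) from rfl, Spec.map_id]
      infer_instance
    exact isReduced_of_isOpenImmersion (pullback.fst (f.fiberToSpecResidueField η) (Spec.map (CommRingCat.ofHom (algebraMap K K))))
  exact S2535.result (k := K) (Ω := K) (f.fiberToSpecResidueField η)

theorem exists_open_smooth {X Y : Scheme.{u}} [IsIntegral X] [IsIntegral Y] (f : X ⟶ Y)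
    [LocallyOfFinitePresentation f] (hη : f (genericPoint X) = genericPoint Y) [CharZero Y.functionField] :
    ∃ U : X.Opens, genericPoint X ∈ U ∧ Smooth (U.ι ≫ f) := by
  refine ⟨f.smoothLocus, genericPoint_mem_smoothLocus f hη, ?_⟩
  haveI : LocallyOfFinitePresentation (f.smoothLocus.ι ≫ f) := inferInstance
  rw [← Scheme.Hom.smoothLocus_eq_top_iff, ← Scheme.Hom.preimage_smoothLocus_eq]
  exact f.smoothLocus.ι_preimage_self

end Groth.Agent.GenSmooth5
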