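import Groth.Agent.SmoothReg.Scheme
import Groth.Agent.ConsPropLib.FibreTop

/-!
# Generic smoothness on the target in characteristic zero
-/

set_option autoImplicit false
set_option linter.style.haveILetI false
set_option backward.isDefEq.respectTransparency.types false
set_option backward.isDefEq.respectTransparency false

universe u

open CategoryTheory CategoryTheory.Limits AlgebraicGeometry Topology TopologicalSpace

namespace Groth.Agent.GenSmooth5

/-- A regular local ring essentially of finite type over a perfect field is formally smooth. -/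
theorem formallySmooth_of_regular (K B : Type u) [Field K] [PerfectField K] [CommRing B] [Algebra K B]
    [Algebra.EssFiniteType K B] [IsRegularLocalRing B] : Algebra.FormallySmooth K B := by
  let S := Algebra.EssFiniteType.subalgebra K B
  let M := Algebra.EssFiniteType.submonoid K B
  let q := IsLocalRing.maximalIdeal B
  let p : Ideal S := q.comap (algebraMap S B)
  haveI : IsLocalization q.primeCompl B := IsLocalization.self fun x hx =>
    IsLocalRing.notMem_maximalIdeal.1 hx
  haveI : IsLocalization.AtPrime B p :=
    IsLocalization.isLocalization_isLocalization_atPrime_isLocalization M B q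
  let e : Localization.AtPrime p ≃ₐ[K] B :=
    (IsLocalization.algEquiv p.primeCompl (Localization.AtPrime p) B).restrictScalars K
  haveI : IsRegularLocalRing (Localization.AtPrime p) := IsRegularLocalRing.of_ringEquiv e.symm.toRingEquiv
  haveI : Algebra.IsSmoothAt K p := (SmoothReg.isSmoothAt_iff_isRegularLocalRing (k := K) p).2 inferInstance
  exact Algebra.FormallySmooth.of_equiv e

theorem mem_smoothLocus_of_regular {X Y : Scheme.{u}} (f : X ⟶ Y) [LocallyOfFinitePresentation f] (x : X)
    (hY : IsField (Y.presheaf.stalk (f x))) [CharZero (Y.presheaf.stalk (f x))]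
    [IsRegularLocalRing (X.presheaf.stalk x)] : x ∈ f.smoothLocus := by
  rw [Scheme.Hom.mem_smoothLocus]
  letI := hY.toField
  haveI : PerfectField (Y.presheaf.stalk (f x)) := PerfectField.ofCharZero
  letI := (f.stalkMap x).hom.toAlgebra
  haveI : Algebra.EssFiniteType (Y.presheaf.stalk (f x)) (X.presheaf.stalk x) := by
    rw [← RingHom.essFiniteType_algebraMap, RingHom.algebraMap_toAlgebra]
    exact LocallyOfFiniteType.stalkMap f x
  exact formallySmooth_of_regular (Y.presheaf.stalk (f x)) (X.presheaf.stalk x)

theorem exists_open_smooth_preimage {k : Type u} [Field k] [CharZero k] {X Y : Scheme.{u}}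
    (qX : X ⟶ Spec (CommRingCat.of k)) (qY : Y ⟶ Spec (CommRingCat.of k))
    [LocallyOfFiniteType qX] [QuasiCompact qX] [Smooth qX]
    [LocallyOfFiniteType qY] [QuasiCompact qY] [IsSeparated qY]
    [IsIntegral Y] (f : X ⟶ Y) (hf : f ≫ qY = qX) :
    ∃ V : Y.Opens, (V : Set ↥Y).Nonempty ∧ Smooth (f ∣_ V) := by
  haveI : IsLocallyNoetherian Y := LocallyOfFiniteType.isLocallyNoetherian qY
  haveI : IsLocallyNoetherian X := LocallyOfFiniteType.isLocallyNoetherian qX
  haveI : CompactSpace Y := QuasiCompact.compactSpace_of_compactSpace qY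
  haveI : CompactSpace X := QuasiCompact.compactSpace_of_compactSpace qX
  haveI : IsNoetherian Y := {}
  haveI : IsNoetherian X := {}
  haveI : LocallyOfFiniteType (f ≫ qY) := hf ▸ inferInstance
  haveI : LocallyOfFiniteType f := locallyOfFiniteType_of_comp f qY
  haveI : QuasiCompact (f ≫ qY) := hf ▸ inferInstance
  haveI : QuasiCompact f := QuasiCompact.of_comp f qY
  haveI : LocallyOfFinitePresentation f := inferInstance
  haveI : LocallyOfFinitePresentation qX := inferInstance
  have hA : IsConstructible ((f.smoothLocus : Set X)ᶜ) :=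
    (SpecLib.isConstructible_of_isOpen f.smoothLocus.2).compl
  obtain ⟨W, hW, hηW, hav⟩ := ConsPropLib.image_avoid f hA fun x hx e => hx <| by
    haveI : IsRegularLocalRing (X.presheaf.stalk x) :=
      SmoothReg.isRegularLocalRing_stalk_of_mem_smoothLocus qX (by rw [qX.smoothLocus_eq_top]; trivial)
    haveI : CharZero (Y.presheaf.stalk (f x)) :=
      charZero_of_injective_ringHom
        (f := (Y.presheaf.germ ⊤ (f x) trivial).hom.comp (Coh.toGlobal qY)) (RingHom.injective _)
    refine mem_smoothLocus_of_regular f x ?_
    rw [e]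
    exact Field.toIsField Y.functionField
  obtain ⟨V, hV⟩ : ∃ V : Y.Opens, (V : Set Y) = W := ⟨⟨W, hW⟩, rfl⟩
  subst hV
  refine ⟨V, ⟨_, hηW⟩, ?_⟩
  haveI : LocallyOfFinitePresentation ((f ⁻¹ᵁ V).ι ≫ f) := inferInstance
  haveI : Smooth ((f ⁻¹ᵁ V).ι ≫ f) := by
    rw [← Scheme.Hom.smoothLocus_eq_top_iff, eq_top_iff, ← Scheme.Hom.preimage_smoothLocus_eq]
    exact fun y _ => of_not_not fun hn => hav _ hn y.2
  haveI : Smooth (f ∣_ V ≫ V.ι) := by rw [morphismRestrict_ι]; infer_instance
  exact MorphismProperty.of_postcomp (W := @Smooth) (f ∣_ V) V.ι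
    (show IsOpenImmersion _ from inferInstance) ‹_›

end Groth.Agent.GenSmooth5
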